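import Cfsg.Agent.FooteOdd.PSU
import Cfsg.Agent.H100.Diag
import Cfsg.Agent.H100.NormRank

/-!
# The normal 2-rank of a Sylow 2-subgroup of `GL_n(q)`, `q` odd (helper100)
-/

set_option autoImplicit false

namespace Cfsg.Agent.H100.GLTwo

open Module Cfsg.Agent.FooteOdd Cfsg.Agent.H100.Diag Cfsg.Agent.H100.NormRank Equiv

variable {K : Type*} [Field K]

theorem finite_gl {ι : Type*} [Finite ι] [Finite K] : Finite ((ι → K) ≃ₗ[K] (ι → K)) :=
  Finite.of_injective _ DFunLike.coe_injective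

/-- weights of an elementary abelian 2-group of linear maps -/
theorem exists_wt {V : Type*} [AddCommGroup V] [Module K V] [FiniteDimensional K V] (two : (2 : K) ≠ 0)
    (E : Subgroup (V ≃ₗ[K] V)) [Finite E] (h1 : ∀ a ∈ E, ∀ b ∈ E, a * b = b * a) (h2 : ∀ a ∈ E, a * a = 1) {n : ℕ}
    (hn : finrank K V = n) : ∃ (b : Basis (Fin n) K V) (c : Fin n → E → K),
      (∀ (e : E) (j : Fin n), (e : V ≃ₗ[K] V) (b j) = c j e • b j) ∧ (∀ e j, c j e = 1 ∨ c j e = -1) ∧
      ∀ [DecidableEq (E → K)], Nat.card E ≤ 2 ^ (Finset.image c Finset.univ).card := by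
  classical
  obtain ⟨b, hb⟩ := exists_basis two (κ := E) (fun e => ((e : V ≃ₗ[K] V) : V →ₗ[K] V))
    (fun i j v => LinearEquiv.congr_fun (h1 i.1 i.2 j.1 j.2) v)
    (fun i v => LinearEquiv.congr_fun (h2 i.1 i.2) v) hn
  refine ⟨b, fun j e => if (e : V ≃ₗ[K] V) (b j) = b j then 1 else -1, ?_, ?_, ?_⟩
  · intro e j
    dsimp only
    split_ifs with h
    · rw [one_smul]; exact h
    · rw [neg_one_smul]
      exact (hb e j).resolve_left h
  · intro e j
    dsimp only
    split_ifs
    · exact Or.inl rfl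
    · exact Or.inr rfl
  · intro hd
    refine card_le E.subtype E.subtype_injective b _ ?_ ?_
    · intro e j
      change (e : V ≃ₗ[K] V) (b j) = _
      split_ifs with h
      · rw [one_smul]; exact h
      · rw [neg_one_smul]
        exact (hb e j).resolve_left h
    · intro e j
      split_ifs
      · exact Or.inl rfl
      · exact Or.inr rfl

/-- the `i`-th block of a vector -/
def blkC {α β : Type*} (i : α) (v : Ix α β → K) : Fin 2 → K := fun s => v (Sum.inl (i, s))

theorem single_apply_eq {α β : Type*} [DecidableEq α] (i : α) (A : (Fin 2 → K) ≃ₗ[K] (Fin 2 → K)) (v : Ix α β → K) :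
    J (Pi.mulSingle i A, (1 : β → Kˣ)) v = v + emb β i (A (blkC i v) - blkC i v) := by
  have h1 : v = (v - emb β i (blkC i v)) + emb β i (blkC i v) := by abel
  have h2 : ∀ k, (v - emb β i (blkC i v)) (Sum.inl (i, k)) = 0 := by
    intro k
    rw [Pi.sub_apply, emb_same]
    exact sub_self _
  have h3 : J (Pi.mulSingle i A, (1 : β → Kˣ)) v = (v - emb β i (blkC i v)) + emb β i (A (blkC i v)) := by
    conv_lhs => rw [h1]
    rw [map_add, J_out i A h2, J_emb]
  rw [h3]
  have h4 : emb β i (A (blkC i v) - blkC i v) = emb β i (A (blkC i v)) - emb β i (blkC i v) := by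
    funext o
    rcases o with (⟨k, s⟩ | k)
    · by_cases hk : k = i
      · subst hk
        rw [Pi.sub_apply, emb_same, emb_same, emb_same]; rfl
      · rw [Pi.sub_apply, emb_ne hk, emb_ne hk, emb_ne hk, sub_zero]
    · rw [Pi.sub_apply, emb_inr, emb_inr, emb_inr, sub_zero]
  rw [h4]
  abel

theorem blkC_J {α β : Type*} [DecidableEq α] (i : α) (A : (Fin 2 → K) ≃ₗ[K] (Fin 2 → K)) (v : Ix α β → K) :
    blkC i (J (Pi.mulSingle i A, (1 : β → Kˣ)) v) = A (blkC i v) := by
  funext s
  change (J (Pi.mulSingle i A, (1 : β → Kˣ)) v) (Sum.inl (i, s)) = _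
  rw [J_inl]
  change ((Pi.mulSingle i A : α → (Fin 2 → K) ≃ₗ[K] (Fin 2 → K)) i) _ s = _
  rw [Pi.mulSingle_eq_same]
  rfl

/-- the quadratic relation on the image of `x - 1` -/
theorem rel_single {α β : Type*} [DecidableEq α] (i : α) (A : (Fin 2 → K) ≃ₗ[K] (Fin 2 → K)) (τ δ : K)
    (hA : ∀ u, A (A u) = τ • A u + δ • u) (v : Ix α β → K) :
    let x : (Ix α β → K) ≃ₗ[K] (Ix α β → K) := J (Pi.mulSingle i A, (1 : β → Kˣ))
    x (x (x v)) = x (x v) + τ • (x (x v) - x v) + δ • (x v - v) := by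
  intro x
  have h0 : ∀ w : Ix α β → K, x w - w = emb β i (A (blkC i w) - blkC i w) := by
    intro w
    rw [sub_eq_iff_eq_add, add_comm]
    exact single_apply_eq i A w
  have h1 : x v - v = emb β i (A (blkC i v) - blkC i v) := h0 v
  have h2 : x (x v) - x v = emb β i (A (A (blkC i v) - blkC i v)) := by
    rw [← map_sub, h1]
    exact J_emb i A _
  have h3 : x (x (x v)) - x (x v) = emb β i (A (A (A (blkC i v) - blkC i v))) := by
    rw [← map_sub, h2]
    exact J_emb i A _
  have h4 : ∀ (a b : K) (y z : Fin 2 → K), emb β i (a • y + b • z) = a • emb β i y + b • emb β i z := by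
    intro a b y z
    funext o
    rcases o with (⟨k, s⟩ | k)
    · by_cases hk : k = i
      · subst hk
        rw [Pi.add_apply, Pi.smul_apply, Pi.smul_apply, emb_same, emb_same, emb_same]; rfl
      · rw [Pi.add_apply, Pi.smul_apply, Pi.smul_apply, emb_ne hk, emb_ne hk, emb_ne hk]; simp
    · rw [Pi.add_apply, Pi.smul_apply, Pi.smul_apply, emb_inr, emb_inr, emb_inr]; simp
  rw [hA, h4, ← h1, ← h2] at h3
  rw [add_assoc, ← h3]
  abel

/-- **The block components of a weight vector of multiplicity one vanish.** -/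
theorem blk_eq_zero {m r n : ℕ} (hns : ∀ c : K, c * c ≠ -1)
    (E : Subgroup ((Ix (Fin m) (Fin r) → K) ≃ₗ[K] (Ix (Fin m) (Fin r) → K))) [Finite E]
    (b : Basis (Fin n) K (Ix (Fin m) (Fin r) → K)) (c : Fin n → E → K)
    (hc : ∀ (e : E) (j : Fin n), (e : (Ix (Fin m) (Fin r) → K) ≃ₗ[K] (Ix (Fin m) (Fin r) → K)) (b j) = c j e • b j)
    (i : Fin m) (A : (Fin 2 → K) ≃ₗ[K] (Fin 2 → K)) (τ δ : K)
    (hA : ∀ u, A (A u) = τ • A u + δ • u) (hA4 : ∀ u, A (A (A (A u))) = -u)
    (hnorm : ∀ e ∈ E, (J (Pi.mulSingle i A, (1 : Fin r → Kˣ)))⁻¹ * e * J (Pi.mulSingle i A, (1 : Fin r → Kˣ)) ∈ E)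
    (j : Fin n) (hj : ∀ l, c l = c j → l = j) : blkC i (b j) = 0 := by
  set x : (Ix (Fin m) (Fin r) → K) ≃ₗ[K] (Ix (Fin m) (Fin r) → K) := J (Pi.mulSingle i A, (1 : Fin r → Kˣ)) with hx
  by_contra hu
  set u : Fin 2 → K := blkC i (b j) with hudef
  -- the iterates
  let w : ℕ → (Ix (Fin m) (Fin r) → K) := fun k => (x ^ k) (b j)
  have hw0 : w 0 = b j := by simp [w]
  have hws : ∀ k, w (k + 1) = x (w k) := by
    intro k
    simp only [w]
    rw [pow_succ']
    rfl
  let φ : E → E := fun e => ⟨x⁻¹ * e * x, hnorm e.1 e.2⟩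
  have hφinj : Function.Injective φ := by
    intro a a' h
    have h1 : x⁻¹ * (a : (Ix (Fin m) (Fin r) → K) ≃ₗ[K] (Ix (Fin m) (Fin r) → K)) * x = x⁻¹ * a' * x := congrArg Subtype.val h
    exact Subtype.ext (mul_left_cancel (mul_right_cancel h1))
  have hφsurj : Function.Surjective φ := Finite.surjective_of_injective hφinj
  let χ : ℕ → E → K := fun k e => c j (φ^[k] e)
  have hχ : ∀ k (e : E), (e : (Ix (Fin m) (Fin r) → K) ≃ₗ[K] (Ix (Fin m) (Fin r) → K)) (w k) = χ k e • w k := by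
    intro k
    induction k with
    | zero => intro e; rw [hw0]; exact hc e j
    | succ k ih =>
      intro e
      have h1 : (e : (Ix (Fin m) (Fin r) → K) ≃ₗ[K] (Ix (Fin m) (Fin r) → K)) (x (w k)) =
          x (((φ e : E) : (Ix (Fin m) (Fin r) → K) ≃ₗ[K] (Ix (Fin m) (Fin r) → K)) (w k)) := by
        have : (e : (Ix (Fin m) (Fin r) → K) ≃ₗ[K] (Ix (Fin m) (Fin r) → K)) * x = x * (x⁻¹ * e * x) := by group
        exact LinearEquiv.congr_fun this (w k)
      rw [hws, h1, ih, map_smul]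
      simp only [χ, Function.iterate_succ_apply]
  have hwne : ∀ k, w k ≠ 0 := fun k h => b.ne_zero j ((x ^ k).map_eq_zero_iff.1 h)
  have hcoord : ∀ k l, b.repr (w k) l ≠ 0 → c l = χ k := by
    intro k l hl
    funext e
    have h1 : b.repr ((e : (Ix (Fin m) (Fin r) → K) ≃ₗ[K] (Ix (Fin m) (Fin r) → K)) (w k)) l = b.repr (χ k e • w k) l :=
      congrArg (fun v => b.repr v l) (hχ k e)
    have h2 : b.repr ((e : (Ix (Fin m) (Fin r) → K) ≃ₗ[K] (Ix (Fin m) (Fin r) → K)) (w k)) l = c l e * b.repr (w k) l := by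
      conv_lhs => rw [← b.sum_repr (w k)]
      rw [map_sum, map_sum, Finsupp.finsetSum_apply]
      rw [Finset.sum_eq_single l]
      · rw [map_smul, hc, smul_comm, map_smul, map_smul, Basis.repr_self]
        simp
      · intro l' _ hl'
        rw [map_smul, hc, map_smul, map_smul, Basis.repr_self]
        simp [hl']
      · intro h; exact absurd (Finset.mem_univ _) h
    rw [h2, map_smul, Finsupp.smul_apply, smul_eq_mul] at h1
    exact mul_right_cancel₀ hl h1
  have hrel : w 3 = w 2 + τ • (w 2 - w 1) + δ • (w 1 - w 0) := by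
    have := rel_single (β := Fin r) i A τ δ hA (b j)
    rw [hws 2, hws 1, hws 0, hw0]
    exact this
  have hex : ∃ d, (d = 1 ∨ d = 2 ∨ d = 3) ∧ χ d = c j := by
    by_contra hno
    push Not at hno
    have h3 : ∀ k, k < 3 → χ 3 ≠ χ k := by
      intro k hk h
      have hd : (3 - k = 1 ∨ 3 - k = 2 ∨ 3 - k = 3) := by omega
      apply hno (3 - k) hd
      funext e
      obtain ⟨e', he'⟩ := hφsurj.iterate k e
      have h1 := congrFun h e'
      simp only [χ] at h1 ⊢
      rw [← he', ← Function.iterate_add_apply, Nat.sub_add_cancel hk.le]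
      exact h1
    obtain ⟨l, hl⟩ : ∃ l, b.repr (w 3) l ≠ 0 := by
      by_contra hall
      push Not at hall
      apply hwne 3
      apply b.repr.map_eq_zero_iff.1
      ext l
      exact hall l
    have h4 : ∀ k, k < 3 → b.repr (w k) l = 0 := by
      intro k hk
      by_contra hne
      exact h3 k hk ((hcoord 3 l hl).symm.trans (hcoord k l hne))
    apply hl
    rw [hrel]
    simp only [map_add, map_sub, map_smul, Finsupp.add_apply, Finsupp.sub_apply, Finsupp.smul_apply, h4 0 (by norm_num),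
      h4 1 (by norm_num), h4 2 (by norm_num)]
    simp
  obtain ⟨d, hd, hχd⟩ := hex
  -- `w d` is a multiple of `b j`
  obtain ⟨t, ht⟩ : ∃ t : K, w d = t • b j := by
    refine ⟨b.repr (w d) j, ?_⟩
    conv_lhs => rw [← b.sum_repr (w d)]
    rw [Finset.sum_eq_single j]
    · intro l _ hl
      have : b.repr (w d) l = 0 := by
        by_contra hne
        exact hl (hj l ((hcoord d l hne).trans hχd))
      rw [this, zero_smul]
    · intro h; exact absurd (Finset.mem_univ _) h
  have hblk : ∀ v, blkC i (x v) = A (blkC i v) := fun v => blkC_J i A v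
  have hsm : ∀ (t : K) v, blkC i (t • v : Ix (Fin m) (Fin r) → K) = t • blkC i v := fun _ _ => rfl
  have hneg : ∀ s : K, s • u = -u → s = -1 := by
    intro s hs
    have : (s + 1) • u = 0 := by rw [add_smul, hs, one_smul, neg_add_cancel]
    rcases smul_eq_zero.1 this with h | h
    · exact eq_neg_of_add_eq_zero_left h
    · exact absurd h hu
  have hfour : ∀ s : K, A u ≠ s • u := by
    intro s h1
    have h7 : ∀ a : K, A (a • u) = (a * s) • u := fun a => by rw [map_smul, h1, smul_smul]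
    have h4 := hA4 u
    rw [h1, h7, h7, h7] at h4
    exact hns (s * s) (by rw [← hneg _ h4]; ring)
  rcases hd with rfl | rfl | rfl
  · have h1 : A u = t • u := by
      have := congrArg (blkC i) ht
      rw [hws 0, hw0, hblk, hsm] at this
      exact this
    exact hfour t h1
  · have h1 : A (A u) = t • u := by
      have := congrArg (blkC i) ht
      rw [hws 1, hws 0, hw0, hblk, hblk, hsm] at this
      exact this
    have h4 := hA4 u
    rw [h1, map_smul, map_smul, h1, smul_smul] at h4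
    exact hns t (hneg _ h4)
  · have h1 : A (A (A u)) = t • u := by
      have := congrArg (blkC i) ht
      rw [hws 2, hws 1, hws 0, hw0, hblk, hblk, hblk, hsm] at this
      exact this
    have h5 : t • A u = -u := by
      have := hA4 u
      rw [h1, map_smul] at this
      exact this
    have h6 : A u = -(t⁻¹ • u) := by
      have ht0 : t ≠ 0 := by
        rintro rfl
        rw [zero_smul] at h5
        exact hu (neg_eq_zero.1 h5.symm)
      rw [← smul_neg, ← h5, smul_smul, inv_mul_cancel₀ ht0, one_smul]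
    exact hfour (-t⁻¹) (by rw [h6, neg_smul])

/-! ### An element of order eight -/

theorem exists_A0 [Fintype K] (hq : Fintype.card K % 4 = 3) :
    ∃ (A : (Fin 2 → K) ≃ₗ[K] (Fin 2 → K)) (τ δ : K),
      (∀ u, A (A u) = τ • A u + δ • u) ∧ ∀ u, A (A (A (A u))) = -u := by
  classical
  have hodd : Odd (Fintype.card K) := Nat.odd_iff.2 (by omega)
  have two : (2 : K) ≠ 0 := two_of_odd hodd
  have hchar : ringChar K ≠ 2 := by
    intro h
    exact two (by
      have : ((ringChar K : ℕ) : K) = 0 := ringChar.Nat.cast_ringChar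
      rw [h] at this
      exact_mod_cast this)
  have h1 : ¬ IsSquare (-1 : K) := by
    rw [FiniteField.isSquare_neg_one_iff]
    exact fun h => h hq
  obtain ⟨a, ε, ha, hε⟩ : ∃ a ε : K, 2 * (a * a) = ε ∧ ε * ε = 1 := by
    have h2 : (2 : K)⁻¹ ≠ 0 := inv_ne_zero two
    by_cases hs : IsSquare (2 : K)⁻¹
    · obtain ⟨a, ha⟩ := hs
      exact ⟨a, 1, by rw [← ha, mul_inv_cancel₀ two], one_mul 1⟩
    · have h3 : quadraticChar K (-1 * 2⁻¹) = 1 := by
        rw [map_mul, (quadraticChar_neg_one_iff_not_isSquare).2 h1, (quadraticChar_neg_one_iff_not_isSquare).2 hs]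
        norm_num
      rw [quadraticChar_one_iff_isSquare (mul_ne_zero (neg_ne_zero.2 one_ne_zero) h2)] at h3
      obtain ⟨a, ha⟩ := h3
      refine ⟨a, -1, ?_, by ring⟩
      rw [← ha]
      field_simp
  have hεne : ε ≠ 0 := by
    rintro rfl
    rw [mul_zero] at hε
    exact zero_ne_one hε
  have hdet : (!![a, a; -a, a] : Matrix (Fin 2) (Fin 2) K).det ≠ 0 := by
    rw [Matrix.det_fin_two_of]
    have : a * a - a * -a = ε := by rw [← ha]; ring
    rw [this]
    exact hεne
  refine ⟨glEquiv (Matrix.GeneralLinearGroup.mkOfDetNeZero !![a, a; -a, a] hdet), 2 * a, -ε, ?_, ?_⟩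
  · intro u
    simp only [glEquiv_apply]
    change (!![a, a; -a, a] : Matrix (Fin 2) (Fin 2) K).mulVec ((!![a, a; -a, a] : Matrix (Fin 2) (Fin 2) K).mulVec u) =
      (2 * a) • (!![a, a; -a, a] : Matrix (Fin 2) (Fin 2) K).mulVec u + (-ε) • u
    funext i
    fin_cases i
    · simp [Matrix.mulVec, dotProduct, Fin.sum_univ_two]
      linear_combination (-u 0) * ha
    · simp [Matrix.mulVec, dotProduct, Fin.sum_univ_two]
      linear_combination (-u 1) * ha
  · intro u
    simp only [glEquiv_apply]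
    have hM2 : ∀ v : Fin 2 → K, (!![a, a; -a, a] : Matrix (Fin 2) (Fin 2) K).mulVec
        ((!![a, a; -a, a] : Matrix (Fin 2) (Fin 2) K).mulVec v) = ![ε * v 1, -ε * v 0] := by
      intro v
      funext i
      fin_cases i
      · simp [Matrix.mulVec, dotProduct, Fin.sum_univ_two]
        linear_combination (v 1) * ha
      · simp [Matrix.mulVec, dotProduct, Fin.sum_univ_two]
        linear_combination (-v 0) * ha
    change (!![a, a; -a, a] : Matrix (Fin 2) (Fin 2) K).mulVec ((!![a, a; -a, a] : Matrix (Fin 2) (Fin 2) K).mulVec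
      ((!![a, a; -a, a] : Matrix (Fin 2) (Fin 2) K).mulVec ((!![a, a; -a, a] : Matrix (Fin 2) (Fin 2) K).mulVec u))) = -u
    rw [hM2, hM2]
    funext i
    fin_cases i
    · simp
      linear_combination (u 0) * hε
    · simp
      linear_combination (u 1) * hε

theorem exists_A [Fintype K] (hq : Fintype.card K % 4 = 3) (P : Sylow 2 ((Fin 2 → K) ≃ₗ[K] (Fin 2 → K))) :
    ∃ (A : (Fin 2 → K) ≃ₗ[K] (Fin 2 → K)) (τ δ : K), A ∈ (P : Subgroup ((Fin 2 → K) ≃ₗ[K] (Fin 2 → K))) ∧
      (∀ u, A (A u) = τ • A u + δ • u) ∧ ∀ u, A (A (A (A u))) = -u := by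
  have hp : Fact (Nat.Prime 2) := ⟨Nat.prime_two⟩
  have hf : Finite ((Fin 2 → K) ≃ₗ[K] (Fin 2 → K)) := finite_gl
  obtain ⟨A, τ, δ, h1, h2⟩ := exists_A0 hq
  have h8 : A ^ 2 ^ 3 = 1 := by
    ext u k
    have : (A ^ 2 ^ 3) u = A (A (A (A (A (A (A (A u))))))) := rfl
    rw [this, h2, h2, neg_neg]
    rfl
  obtain ⟨g, hg⟩ := Cfsg.Agent.ClosedTwo.Elem.exists_conj_le P (isPGroup_zpowers h8)
  have h3 := hg A (Subgroup.mem_zpowers A)
  have h4 : ∀ u, (g * A * g⁻¹) u = g (A (g⁻¹ u)) := fun u => rfl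
  have h5 : ∀ u, g⁻¹ (g u) = u := fun u => LinearEquiv.congr_fun (inv_mul_cancel g) u
  have h6 : ∀ u, g (g⁻¹ u) = u := fun u => LinearEquiv.congr_fun (mul_inv_cancel g) u
  refine ⟨g * A * g⁻¹, τ, δ, h3, ?_, ?_⟩
  · intro u
    rw [h4, h4, h5, h1, map_add, map_smul, map_smul, h6]
  · intro u
    rw [h4, h4, h4, h4, h5, h5, h5, h2, map_neg, h6]

/-! ### The Sylow subgroup -/

theorem two_part [Fintype K] (two : (2 : K) ≠ 0) (m r : ℕ) (hr : r ≤ 1) :
    (Nat.card ((Ix (Fin m) (Fin r) → K) ≃ₗ[K] (Ix (Fin m) (Fin r) → K))).factorization 2 =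
      m * (Nat.card ((Fin 2 → K) ≃ₗ[K] (Fin 2 → K))).factorization 2 + (Nat.card (Perm (Fin m))).factorization 2 +
        r * (Nat.card Kˣ).factorization 2 := by
  have hodd := odd_of_two two
  have h1 : 1 < Fintype.card K := Fintype.one_lt_card
  rw [card_gl (n := 2 * m + r) (by simp [mul_comm]), card_gl (n := 2) (by simp)]
  have e1 := Num.v2_gl hodd h1 m r hr
  have e2 := Num.v2_gl hodd h1 1 0 (by norm_num)
  simp only [Num.v2] at e1 e2
  rw [e1]
  have e3 : (∏ i : Fin 2, (Fintype.card K ^ 2 - Fintype.card K ^ (i : ℕ))).factorization 2 =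
      (Fintype.card K - 1).factorization 2 + (Fintype.card K ^ 2 - 1).factorization 2 := by
    have := e2
    simp only [mul_one, add_zero, one_mul, Nat.factorial_one, Nat.factorization_one, Finsupp.coe_zero, Pi.zero_apply,
      zero_mul] at this
    exact this
  rw [e3, Nat.card_perm, Nat.card_eq_fintype_card (α := Fin m), Fintype.card_fin, Nat.card_units,
    Nat.card_eq_fintype_card (α := K)]

theorem card_sylow_R [Fintype K] (two : (2 : K) ≠ 0) (m r : ℕ) (hr : r ≤ 1) (P : Sylow 2 ((Fin 2 → K) ≃ₗ[K] (Fin 2 → K)))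
    (D : Sylow 2 Kˣ) (Q : Sylow 2 (Perm (Fin m))) :
    Nat.card ↥(R (β := Fin r) (P : Subgroup ((Fin 2 → K) ≃ₗ[K] (Fin 2 → K))) (D : Subgroup Kˣ)
      (Q : Subgroup (Perm (Fin m)))) =
      2 ^ (Nat.card ((Ix (Fin m) (Fin r) → K) ≃ₗ[K] (Ix (Fin m) (Fin r) → K))).factorization 2 := by
  have hp : Fact (Nat.Prime 2) := ⟨Nat.prime_two⟩
  have hf : Finite ((Fin 2 → K) ≃ₗ[K] (Fin 2 → K)) := finite_gl
  rw [card_R, two_part two m r hr, Fintype.card_fin, Fintype.card_fin]
  have h1 : Nat.card (P : Subgroup ((Fin 2 → K) ≃ₗ[K] (Fin 2 → K))) = _ := P.card_eq_multiplicity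
  have h2 : Nat.card (D : Subgroup Kˣ) = _ := D.card_eq_multiplicity
  have h3 : Nat.card (Q : Subgroup (Perm (Fin m))) = _ := Q.card_eq_multiplicity
  rw [h1, h2, h3, ← pow_mul, ← pow_mul, ← pow_add, ← pow_add]
  congr 1
  ring

/-- **Upper bound, `q ≡ 3 (mod 4)`.** -/
theorem upper_three [Fintype K] (hq : Fintype.card K % 4 = 3) (m r : ℕ) (hr : r ≤ 1) :
    ∃ S : Sylow 2 ((Ix (Fin m) (Fin r) → K) ≃ₗ[K] (Ix (Fin m) (Fin r) → K)), Upper S ((2 * m + r + 1) / 2) := by
  classical
  have hp : Fact (Nat.Prime 2) := ⟨Nat.prime_two⟩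
  have hf : Finite ((Fin 2 → K) ≃ₗ[K] (Fin 2 → K)) := finite_gl
  have hf' : Finite ((Ix (Fin m) (Fin r) → K) ≃ₗ[K] (Ix (Fin m) (Fin r) → K)) := finite_gl
  have two : (2 : K) ≠ 0 := two_of_odd (Nat.odd_iff.2 (by omega))
  have hns : ∀ c : K, c * c ≠ -1 := by
    intro c hc
    have : IsSquare (-1 : K) := ⟨c, hc.symm⟩
    rw [FiniteField.isSquare_neg_one_iff] at this
    exact this hq
  have P : Sylow 2 ((Fin 2 → K) ≃ₗ[K] (Fin 2 → K)) := default
  have D : Sylow 2 Kˣ := default
  have Q : Sylow 2 (Perm (Fin m)) := default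
  obtain ⟨S, hS⟩ := exists_sylow_eq _ (card_sylow_R two m r hr P D Q)
  obtain ⟨A, τ, δ, hAP, hA, hA4⟩ := exists_A hq P
  refine ⟨S, upper_of _ ?_⟩
  intro E hES hn h1 h2
  have hdim : finrank K (Ix (Fin m) (Fin r) → K) = 2 * m + r := by
    rw [finrank_fintype_fun_eq_card]
    simp [mul_comm]
  obtain ⟨b, c, hc, hc1, hcard⟩ := exists_wt two E h1 h2 hdim
  have hblk : ∀ j, (∀ l, c l = c j → l = j) → ∀ i, blkC i (b j) = 0 := by
    intro j hj i
    have hxS : J (Pi.mulSingle i A, (1 : Fin r → Kˣ)) ∈ (S : Subgroup ((Ix (Fin m) (Fin r) → K) ≃ₗ[K] (Ix (Fin m) (Fin r) → K))) := by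
      rw [hS, mem_R]
      refine ⟨(Pi.mulSingle i A, 1), 1, Subgroup.one_mem _, ?_, fun _ => Subgroup.one_mem _, by rw [map_one, mul_one]⟩
      intro k
      by_cases hk : k = i
      · subst hk
        change (Pi.mulSingle k A : Fin m → (Fin 2 → K) ≃ₗ[K] (Fin 2 → K)) k ∈ _
        rw [Pi.mulSingle_eq_same]
        exact hAP
      · change (Pi.mulSingle i A : Fin m → (Fin 2 → K) ≃ₗ[K] (Fin 2 → K)) k ∈ _
        rw [Pi.mulSingle_eq_of_ne hk]
        exact Subgroup.one_mem _
    refine blk_eq_zero hns E b c hc i A τ δ hA hA4 ?_ j hj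
    intro e he
    have := hn _ (Subgroup.inv_mem _ hxS) e he
    rwa [inv_inv] at this
  have hzero : ∀ j, (∀ l, c l = c j → l = j) → ∀ p, b j (Sum.inl p) = 0 := fun j hj p => congrFun (hblk j hj p.1) p.2
  have hsub : Subsingleton (Fin r) := ⟨fun a b => Fin.ext (by have := a.2; have := b.2; omega)⟩
  have hkey : ∀ j j', (∀ l, c l = c j → l = j) → (∀ l, c l = c j' → l = j') → j = j' := by
    intro j j' hj hj'
    by_contra hne
    obtain ⟨o, ho⟩ : ∃ o : Fin r, b j (Sum.inr o) ≠ 0 := by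
      by_contra hall
      push Not at hall
      apply b.ne_zero j
      funext o
      rcases o with p | o
      · exact hzero j hj p
      · exact hall o
    have h3 : (b j' (Sum.inr o)) • b j = (b j (Sum.inr o)) • b j' := by
      funext p
      rcases p with p | p
      · rw [Pi.smul_apply, Pi.smul_apply, hzero j hj, hzero j' hj', smul_zero, smul_zero]
      · rw [Pi.smul_apply, Pi.smul_apply, Subsingleton.elim p o, smul_eq_mul, smul_eq_mul, mul_comm]
    have h4 := congrArg (fun v => b.repr v j') h3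
    simp only [map_smul, Basis.repr_self, Finsupp.smul_apply, Finsupp.single_eq_same, smul_eq_mul, mul_one] at h4
    rw [Finsupp.single_eq_of_ne (Ne.symm hne), mul_zero] at h4
    exact ho h4.symm
  have h5 := two_mul_card_image_le_succ c hkey
  rw [Fintype.card_fin] at h5
  exact hcard.trans (Nat.pow_le_pow_right (by norm_num) (by omega))

/-- **Upper bound, all odd `q`.** -/
theorem upper_one [Fintype K] {V : Type*} [AddCommGroup V] [Module K V] [FiniteDimensional K V] [Finite (V ≃ₗ[K] V)]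
    (two : (2 : K) ≠ 0) {n : ℕ} (hn : finrank K V = n) (S : Subgroup (V ≃ₗ[K] V)) : Upper S n := by
  classical
  refine upper_of _ ?_
  intro E _ _ h1 h2
  obtain ⟨b, c, hc, hc1, hcard⟩ := exists_wt two E h1 h2 hn
  refine hcard.trans (Nat.pow_le_pow_right (by norm_num) ?_)
  have := Finset.card_image_le (s := (Finset.univ : Finset (Fin n))) (f := c)
  rwa [Finset.card_univ, Fintype.card_fin] at this

end Cfsg.Agent.H100.GLTwo
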