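import Cfsg.Agent.H100.GLTwo

/-!
# The normal 2-rank of a Sylow 2-subgroup of `GL_n(q)`, `q` odd: lower bounds (helper100)
-/

set_option autoImplicit false

namespace Cfsg.Agent.H100.GLTwo

open Module Cfsg.Agent.FooteOdd Cfsg.Agent.H100.Diag Cfsg.Agent.H100.NormRank Equiv

variable {K : Type*} [Field K]

theorem mem_zpowers_of_sq {G : Type*} [Group G] {z x : G} (hz : z * z = 1) (hx : x ∈ Subgroup.zpowers z) :
    x = 1 ∨ x = z := by
  obtain ⟨k, rfl⟩ := Subgroup.mem_zpowers_iff.1 hx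
  have h2 : z ^ (2 : ℤ) = 1 := by rw [zpow_two, hz]
  rcases Int.even_or_odd k with ⟨l, rfl⟩ | ⟨l, rfl⟩
  · left
    rw [← two_mul, zpow_mul, h2, one_zpow]
  · right
    rw [zpow_add, zpow_mul, h2, one_zpow, one_mul, zpow_one]

theorem card_zpowers_of_sq {G : Type*} [Group G] {z : G} (hz : z * z = 1) (hz1 : z ≠ 1) :
    Nat.card (Subgroup.zpowers z) = 2 := by
  rw [Nat.card_zpowers]
  exact orderOf_eq_prime (by rw [pow_two, hz]) hz1

theorem neg_one_ne (two : (2 : K) ≠ 0) : (-1 : Kˣ) ≠ 1 := by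
  intro h
  have h1 : (-1 : K) = 1 := by simpa using congrArg Units.val h
  apply two
  have h2 : (1 : K) + 1 = 0 := by
    nth_rewrite 1 [← h1]
    exact neg_add_cancel 1
  rw [← one_add_one_eq_two]
  exact h2

theorem sc_neg_ne {ι : Type*} [Nonempty ι] (two : (2 : K) ≠ 0) : (sc (-1) : (ι → K) ≃ₗ[K] (ι → K)) ≠ 1 := by
  intro h
  obtain ⟨i⟩ := ‹Nonempty ι›
  have h1 := congrFun (LinearEquiv.congr_fun h (fun _ => 1)) i
  rw [sc_apply] at h1
  have h2 : (-1 : K) = 1 := by simpa using h1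
  exact neg_one_ne two (Units.ext (by simpa using h2))

theorem sc_neg_sq {ι : Type*} : (sc (-1) : (ι → K) ≃ₗ[K] (ι → K)) * sc (-1) = 1 := by
  rw [← sc_mul, neg_mul_neg, one_mul]
  ext v i
  simp

/-- **Lower bound, all odd `q`.** -/
theorem lower_three [Fintype K] (two : (2 : K) ≠ 0) (m r : ℕ) (hr : r ≤ 1)
    (S : Sylow 2 ((Ix (Fin m) (Fin r) → K) ≃ₗ[K] (Ix (Fin m) (Fin r) → K))) : Lower S (m + r) := by
  classical
  have hp : Fact (Nat.Prime 2) := ⟨Nat.prime_two⟩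
  have hf : Finite ((Fin 2 → K) ≃ₗ[K] (Fin 2 → K)) := finite_gl
  have hf' : Finite ((Ix (Fin m) (Fin r) → K) ≃ₗ[K] (Ix (Fin m) (Fin r) → K)) := finite_gl
  set Z : Subgroup ((Fin 2 → K) ≃ₗ[K] (Fin 2 → K)) := Subgroup.zpowers (sc (-1)) with hZ
  set D : Subgroup Kˣ := Subgroup.zpowers (-1) with hD
  have hZc : ∀ z ∈ Z, ∀ g, g * z = z * g := by
    intro z hz g
    rcases mem_zpowers_of_sq sc_neg_sq hz with rfl | rfl
    · rw [one_mul, mul_one]
    · exact (sc_comm _ _).symm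
  have hZ2 : ∀ z ∈ Z, z * z = 1 := by
    intro z hz
    rcases mem_zpowers_of_sq sc_neg_sq hz with rfl | rfl
    · rw [one_mul]
    · exact sc_neg_sq
  have hD2 : ∀ z ∈ D, z * z = 1 := by
    intro z hz
    rcases mem_zpowers_of_sq (by rw [neg_mul_neg, one_mul]) hz with rfl | rfl
    · rw [one_mul]
    · rw [neg_mul_neg, one_mul]
  refine lower_of (R (β := Fin r) ⊤ ⊤ ⊤) (R (β := Fin r) Z D (⊥ : Subgroup (Perm (Fin m)))) ?_ ?_ ?_ ?_ ?_ S
  · rintro g ⟨p, π, hπ, h1, h2, h3⟩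
    exact ⟨p, π, trivial, fun _ => trivial, fun _ => trivial, h3⟩
  · rintro g ⟨p, π, -, -, -, rfl⟩ e ⟨p', π', hπ', h1, h2, rfl⟩
    rw [Subgroup.mem_bot] at hπ'
    subst hπ'
    refine ⟨p * (p'.1 ∘ ⇑π⁻¹, p'.2) * p⁻¹, 1, Subgroup.one_mem _, ?_, ?_, ?_⟩
    · intro i
      change p.1 i * p'.1 (π⁻¹ i) * (p.1 i)⁻¹ ∈ Z
      rw [hZc _ (h1 (π⁻¹ i)), mul_inv_cancel_right]
      exact h1 _
    · intro j
      change p.2 j * p'.2 j * (p.2 j)⁻¹ ∈ D
      rw [mul_comm (p.2 j), mul_inv_cancel_right]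
      exact h2 _
    · rw [map_one, mul_one, mul_one, map_mul, map_mul, ← bp_J, map_inv]
      group
  · rw [elemAb_iff]
    constructor
    · rintro _ ⟨p, π, hπ, h1, h2, rfl⟩ _ ⟨p', π', hπ', h1', h2', rfl⟩
      rw [Subgroup.mem_bot] at hπ hπ'
      subst hπ hπ'
      rw [map_one, mul_one, mul_one, ← map_mul, ← map_mul]
      congr 1
      refine Prod.ext (funext fun i => ?_) (funext fun j => ?_)
      · exact hZc _ (h1' i) _
      · exact mul_comm _ _
    · rintro _ ⟨p, π, hπ, h1, h2, rfl⟩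
      rw [Subgroup.mem_bot] at hπ
      subst hπ
      rw [map_one, mul_one, ← map_mul]
      have : p * p = 1 := by
        refine Prod.ext (funext fun i => ?_) (funext fun j => ?_)
        · exact hZ2 _ (h1 i)
        · exact hD2 _ (h2 j)
      rw [this, map_one]
  · rw [card_R, two_part two m r hr, Fintype.card_fin, Fintype.card_fin, Subgroup.card_top, Subgroup.card_top,
      Subgroup.card_top, Nat.factorization_mul, Nat.factorization_mul, Nat.factorization_pow, Nat.factorization_pow]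
    · simp only [Finsupp.add_apply, Finsupp.smul_apply, smul_eq_mul]
      ring
    · exact pow_ne_zero _ Nat.card_pos.ne'
    · exact pow_ne_zero _ Nat.card_pos.ne'
    · exact mul_ne_zero (pow_ne_zero _ Nat.card_pos.ne') (pow_ne_zero _ Nat.card_pos.ne')
    · exact Nat.card_pos.ne'
  · rw [card_R, hZ, hD, card_zpowers_of_sq sc_neg_sq (sc_neg_ne two),
      card_zpowers_of_sq (by rw [neg_mul_neg, one_mul]) (neg_one_ne two), Fintype.card_fin, Fintype.card_fin,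
      Subgroup.card_bot, mul_one, pow_add]

/-! ### Monomial operators -/

/-- monomial operators with entries in `D` and permutations in `Q` -/
def Mon {ι : Type*} (D : Subgroup Kˣ) (Q : Subgroup (Perm ι)) : Subgroup ((ι → K) ≃ₗ[K] (ι → K)) where
  carrier := {g | ∃ d : ι → Kˣ, ∃ σ ∈ Q, (∀ i, d i ∈ D) ∧ g = dg d * pm σ}
  mul_mem' := by
    rintro _ _ ⟨d, σ, hσ, h1, rfl⟩ ⟨d', σ', hσ', h1', rfl⟩
    refine ⟨d * (d' ∘ ⇑σ⁻¹), σ * σ', Q.mul_mem hσ hσ', fun i => D.mul_mem (h1 i) (h1' _), ?_⟩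
    rw [map_mul, map_mul, ← pm_dg]
    group
  one_mem' := ⟨1, 1, Q.one_mem, fun i => D.one_mem, by simp⟩
  inv_mem' := by
    rintro _ ⟨d, σ, hσ, h1, rfl⟩
    refine ⟨d⁻¹ ∘ ⇑σ, σ⁻¹, Q.inv_mem hσ, fun i => D.inv_mem (h1 _), ?_⟩
    have := pm_dg (K := K) σ⁻¹ d⁻¹
    rw [inv_inv] at this
    rw [← this, mul_inv_rev, map_inv, map_inv]
    group

theorem eq_one_of_dg_eq_pm {ι : Type*} [DecidableEq ι] {d : ι → Kˣ} {σ : Perm ι} (h : dg d = pm (K := K) σ) : σ = 1 := by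
  ext i
  by_contra hi'
  have hi : σ i ≠ i := hi'
  have h1 := congrFun (LinearEquiv.congr_fun h (Pi.single i 1)) (σ i)
  rw [dg_apply, pm_apply, show σ⁻¹ (σ i) = i from σ.symm_apply_apply i, Pi.single_eq_same, Pi.single_eq_of_ne hi,
    mul_zero] at h1
  exact zero_ne_one h1

theorem card_Mon {ι : Type*} [Fintype ι] [DecidableEq ι] (D : Subgroup Kˣ) (Q : Subgroup (Perm ι)) :
    Nat.card ↥(Mon D Q) = Nat.card D ^ Fintype.card ι * Nat.card Q := by
  let f : (ι → ↥D) × ↥Q → ↥(Mon D Q) := fun x =>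
    ⟨dg (fun i => (x.1 i : Kˣ)) * pm x.2, _, _, x.2.2, fun i => (x.1 i).2, rfl⟩
  have hf : Function.Bijective f := by
    constructor
    · rintro ⟨d, σ⟩ ⟨d', σ'⟩ h
      have h1 : dg (fun i => (d i : Kˣ)) * pm (K := K) (σ : Perm ι) = dg (fun i => (d' i : Kˣ)) * pm (σ' : Perm ι) :=
        congrArg Subtype.val h
      have h2 : dg ((fun i => (d' i : Kˣ))⁻¹ * (fun i => (d i : Kˣ))) = pm (K := K) ((σ' : Perm ι) * (σ : Perm ι)⁻¹) := by
        rw [map_mul, map_mul, map_inv, map_inv, inv_mul_eq_iff_eq_mul, ← mul_assoc, ← h1, mul_inv_cancel_right]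
      have h3 := eq_one_of_dg_eq_pm h2
      have h4 : σ' = σ := Subtype.ext (mul_inv_eq_one.1 h3)
      subst h4
      have h5 := dg_injective (mul_right_cancel h1)
      exact Prod.ext (funext fun i => Subtype.ext (congrFun h5 i)) rfl
    · rintro ⟨_, d, σ, hσ, h1, rfl⟩
      exact ⟨(fun i => ⟨d i, h1 i⟩, ⟨σ, hσ⟩), rfl⟩
  rw [← Nat.card_congr (Equiv.ofBijective f hf), Nat.card_prod, Nat.card_fun, Nat.card_eq_fintype_card (α := ι)]

theorem v2_factorial (m r : ℕ) (hr : r ≤ 1) : Num.v2 (2 * m + r).factorial = m + Num.v2 m.factorial := by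
  have h := Num.sum_w' (w := Num.v2) (c1 := 0) (c2 := 1) (fun k => Num.v2_odd ⟨k, rfl⟩)
    (fun k => by rw [Num.v2_mul (by norm_num) (by omega), Num.v2_two]) m r hr
  have h2 : ∀ n : ℕ, Num.v2 n.factorial = ∑ i ∈ Finset.range n, Num.v2 (i + 1) := by
    intro n
    induction n with
    | zero => simp [Num.v2]
    | succ n ih => rw [Nat.factorial_succ, Num.v2_mul (by omega) (Nat.factorial_ne_zero n), Finset.sum_range_succ, ih, add_comm]
  rw [h2, h]
  ring

theorem v2_gl_one {q : ℕ} (hq : q % 4 = 1) (hq1 : 1 < q) (n : ℕ) :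
    Num.v2 (∏ i : Fin n, (q ^ n - q ^ (i : ℕ))) = n * Num.v2 (q - 1) + Num.v2 n.factorial := by
  obtain ⟨m, r, hr, rfl⟩ : ∃ m r, r ≤ 1 ∧ n = 2 * m + r := ⟨n / 2, n % 2, by omega, by omega⟩
  have hodd : Odd q := Nat.odd_iff.2 (by omega)
  have h1 : Num.v2 (q ^ 2 - 1) = Num.v2 (q - 1) + 1 := by
    have h2 : q ^ 2 - 1 = (q + 1) * (q - 1) := by simpa using Nat.sq_sub_sq q 1
    have h3 : q + 1 = 2 * ((q + 1) / 2) := by omega
    have h4 : Odd ((q + 1) / 2) := Nat.odd_iff.2 (by omega)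
    rw [h2, Num.v2_mul (by omega) (by omega), h3, Num.v2_mul (by norm_num) (by omega), Num.v2_two, Num.v2_odd h4]
    ring
  rw [Num.v2_gl hodd hq1 m r hr, h1, v2_factorial m r hr]
  ring

/-- **Lower bound, `q ≡ 1 (mod 4)`.** -/
theorem lower_one [Fintype K] (hq : Fintype.card K % 4 = 1) (n : ℕ)
    (S : Sylow 2 ((Fin n → K) ≃ₗ[K] (Fin n → K))) : Lower S n := by
  classical
  have hp : Fact (Nat.Prime 2) := ⟨Nat.prime_two⟩
  have hf' : Finite ((Fin n → K) ≃ₗ[K] (Fin n → K)) := finite_gl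
  have two : (2 : K) ≠ 0 := two_of_odd (Nat.odd_iff.2 (by omega))
  set D : Subgroup Kˣ := Subgroup.zpowers (-1) with hD
  have hD2 : ∀ z ∈ D, z * z = 1 := by
    intro z hz
    rcases mem_zpowers_of_sq (by rw [neg_mul_neg, one_mul]) hz with rfl | rfl
    · rw [one_mul]
    · rw [neg_mul_neg, one_mul]
  refine lower_of (Mon ⊤ ⊤) (Mon D (⊥ : Subgroup (Perm (Fin n)))) ?_ ?_ ?_ ?_ ?_ S
  · rintro g ⟨p, π, hπ, h1, h3⟩
    exact ⟨p, π, trivial, fun _ => trivial, h3⟩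
  · rintro g ⟨p, π, -, -, rfl⟩ e ⟨p', π', hπ', h1, rfl⟩
    rw [Subgroup.mem_bot] at hπ'
    subst hπ'
    refine ⟨p * (p' ∘ ⇑π⁻¹) * p⁻¹, 1, Subgroup.one_mem _, ?_, ?_⟩
    · intro i
      change p i * p' (π⁻¹ i) * (p i)⁻¹ ∈ D
      rw [mul_comm (p i), mul_inv_cancel_right]
      exact h1 _
    · rw [map_one, mul_one, mul_one, map_mul, map_mul, ← pm_dg, map_inv]
      group
  · rw [elemAb_iff]
    constructor
    · rintro _ ⟨p, π, hπ, h1, rfl⟩ _ ⟨p', π', hπ', h1', rfl⟩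
      rw [Subgroup.mem_bot] at hπ hπ'
      subst hπ hπ'
      rw [map_one, mul_one, mul_one, ← map_mul, ← map_mul, mul_comm]
    · rintro _ ⟨p, π, hπ, h1, rfl⟩
      rw [Subgroup.mem_bot] at hπ
      subst hπ
      rw [map_one, mul_one, ← map_mul]
      have : p * p = 1 := funext fun i => hD2 _ (h1 i)
      rw [this, map_one]
  · have h1 : 1 < Fintype.card K := Fintype.one_lt_card
    have e := v2_gl_one hq h1 n
    simp only [Num.v2] at e
    rw [card_Mon, card_gl (n := n) (by simp), e, Fintype.card_fin, Subgroup.card_top, Subgroup.card_top,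
      Nat.factorization_mul (pow_ne_zero _ Nat.card_pos.ne') Nat.card_pos.ne', Nat.factorization_pow, Nat.card_perm,
      Nat.card_eq_fintype_card (α := Fin n), Fintype.card_fin, Nat.card_units, Nat.card_eq_fintype_card (α := K)]
    simp only [Finsupp.add_apply, Finsupp.smul_apply, smul_eq_mul]
  · rw [card_Mon, hD, card_zpowers_of_sq (by rw [neg_mul_neg, one_mul]) (neg_one_ne two), Fintype.card_fin,
      Subgroup.card_bot, mul_one]

end Cfsg.Agent.H100.GLTwo
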